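import Groth.Agent.H8Props.RelFP.PullSections
import Groth.Agent.H06Mod.StalkBaseChange
import Mathlib

/-!
# Nonvanishing of fibres under base change
-/

set_option autoImplicit false
set_option linter.style.haveILetI false
set_option backward.isDefEq.respectTransparency false
set_option maxHeartbeats 800000
universe u

open CategoryTheory CategoryTheory.Limits AlgebraicGeometry TensorProduct IsLocalRing

namespace Groth.Agent.H06FDesc

/-- The fibre of a module over a local ring is a vector space. -/
noncomputable abbrev resModule (O M : Type u) [CommRing O] [IsLocalRing O] [AddCommGroup M] [Module O M] :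
    Module (ResidueField O) (M ⧸ (maximalIdeal O • ⊤ : Submodule O M)) :=
  inferInstanceAs (Module (O ⧸ maximalIdeal O) (M ⧸ (maximalIdeal O • ⊤ : Submodule O M)))

variable {X Y Y' : Scheme.{u}} (f : X ⟶ Y) (g : Y' ⟶ Y) (F : X.Modules) (hF : Coh.IsQCoh F)

include hF in
/-- A nonzero fibre module yields a nonzero fibre module after base change. -/
theorem exists_fibre_ne_top (x : X) (y' : Y') (hxy : f x = g y')
    (hx : letI := FlatMod.moduleStalkOver f F x
      maximalIdeal (Y.presheaf.stalk (f x)) • (⊤ : Submodule (Y.presheaf.stalk (f x)) (F.presheaf.stalk x)) ≠ ⊤) :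
    ∃ x' : ↥(pullback f g), (pullback.snd f g) x' = y' ∧
      letI := FlatMod.moduleStalkOver (pullback.snd f g) ((Scheme.Modules.pullback (pullback.fst f g)).obj F) x'
      maximalIdeal (Y'.presheaf.stalk ((pullback.snd f g) x')) •
        (⊤ : Submodule (Y'.presheaf.stalk ((pullback.snd f g) x'))
          (((Scheme.Modules.pullback (pullback.fst f g)).obj F).presheaf.stalk x')) ≠ ⊤ := by
  obtain ⟨_, ⟨W, hW : IsAffineOpen W, rfl⟩, hxW, -⟩ :=
    Y.isBasis_affineOpens.exists_subset_of_mem_open (Set.mem_univ (f x)) isOpen_univ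
  obtain ⟨_, ⟨U, hU : IsAffineOpen U, rfl⟩, hxU, hle⟩ :=
    X.isBasis_affineOpens.exists_subset_of_mem_open (show x ∈ (f ⁻¹ᵁ W : Set X) from hxW) (f ⁻¹ᵁ W).2
  have hyW : g y' ∈ W := hxy ▸ hxW
  set A := Γ(Y, W)
  set B := Γ(X, U)
  let φ : A ⟶ B := f.appLE W U hle
  let K := Y.residueField (g y')
  let K' := Y'.residueField y'
  let ev : A ⟶ K := Y.presheaf.germ W (g y') hyW ≫ Y.residue (g y')
  letI : Algebra A K := ev.hom.toAlgebra
  letI : Algebra K K' := (g.residueFieldMap y').hom.toAlgebra
  letI : Algebra A K' := (ev ≫ g.residueFieldMap y').hom.toAlgebra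
  haveI : IsScalarTower A K K' := IsScalarTower.of_algebraMap_eq fun _ => rfl
  letI : Algebra A B := φ.hom.toAlgebra
  letI : Module A Γ(F, U) := Module.compHom _ φ.hom
  haveI : IsScalarTower A B Γ(F, U) := .of_algebraMap_smul fun _ _ => rfl
  -- the fibre module over the base point is nonzero
  have hne : Nontrivial (K ⊗[A] Γ(F, U)) := by
    by_contra hn
    rw [not_nontrivial_iff_subsingleton] at hn
    refine hx ?_
    let O := Y.presheaf.stalk (f x)
    letI := FlatMod.moduleStalkOver f F x
    let N : Submodule O (F.presheaf.stalk x) := maximalIdeal O • ⊤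
    let V := F.presheaf.stalk x ⧸ N
    letI : Module (ResidueField O) V := resModule O (F.presheaf.stalk x)
    let e : K ⟶ CommRingCat.of (ResidueField O) := (Y.residueFieldCongr hxy.symm).hom
    have he : ∀ a, e (ev a) = residue O (Y.presheaf.germ W (f x) hxW a) := by
      intro a
      have : ∀ (z : Y) (h : z = f x) (hz : z ∈ W),
          (Y.residueFieldCongr h).hom (Y.residue z (Y.presheaf.germ W z hz a)) =
            residue O (Y.presheaf.germ W (f x) hxW a) := by
        rintro z rfl hz
        simp only [Scheme.residueFieldCongr_refl]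
        rfl
      exact this _ hxy.symm hyW
    letI : Module K V := Module.compHom V e.hom
    letI : Module A V := Module.compHom V (Y.presheaf.germ W (f x) hxW).hom
    haveI : IsScalarTower A K V := .of_algebraMap_smul fun a v => by
      show e (ev a) • v = (Y.presheaf.germ W (f x) hxW) a • v
      rw [he]
      obtain ⟨v, rfl⟩ := Submodule.Quotient.mk_surjective _ v
      rfl
    let ψ : Γ(F, U) →ₗ[A] V :=
      { toFun := fun m => Submodule.Quotient.mk (F.presheaf.germ U x hxU m)
        map_add' := fun a b => by rw [map_add, Submodule.Quotient.mk_add]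
        map_smul' := fun a m => by
          show Submodule.Quotient.mk (F.presheaf.germ U x hxU (φ a • m)) =
            (Y.presheaf.germ W (f x) hxW) a • Submodule.Quotient.mk (p := N) _
          rw [← Submodule.Quotient.mk_smul, H06Mod.germ_smul]
          refine congrArg Submodule.Quotient.mk ?_
          show X.presheaf.germ U x hxU (f.appLE W U hle a) • F.presheaf.germ U x hxU _ =
            (f.stalkMap x) (Y.presheaf.germ W (f x) hxW a) • F.presheaf.germ U x hxU _
          rw [Scheme.Hom.germ_stalkMap_apply, Scheme.Hom.appLE, CommRingCat.comp_apply, X.presheaf.germ_res_apply] }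
    have hψ : ∀ m, ψ m = 0 := fun m => by
      have h1 := LinearMap.liftBaseChange_tmul (A := K) ψ 1 m
      rwa [Subsingleton.elim (1 ⊗ₜ[A] m) 0, map_zero, one_smul, eq_comm] at h1
    refine eq_top_iff.mpr fun v _ => ?_
    letI := TopCat.Presheaf.algebra_section_stalk X.presheaf (⟨x, hxU⟩ : U)
    letI := Module.compHom (F.presheaf.stalk x) (algebraMap Γ(X, U) (X.presheaf.stalk x))
    haveI := H29Fitt.isLocalizedModule_germLin F hF hU ⟨x, hxU⟩
    obtain ⟨⟨m, s⟩, hs⟩ := IsLocalizedModule.surj (hU.primeIdealOf ⟨x, hxU⟩).asIdeal.primeCompl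
      (H29Fitt.germLin F ⟨x, hxU⟩) v
    have hsu : IsUnit (X.presheaf.germ U x hxU (s : B)) := by
      haveI : IsLocalization.AtPrime (X.presheaf.stalk x) (hU.primeIdealOf ⟨x, hxU⟩).asIdeal :=
        hU.isLocalization_stalk ⟨x, hxU⟩
      exact IsLocalization.map_units (X.presheaf.stalk x) s
    have hm : F.presheaf.germ U x hxU m ∈ N := (Submodule.Quotient.mk_eq_zero N).mp (hψ m)
    obtain ⟨t, ht⟩ := hsu.exists_left_inv
    have hv : v = t • F.presheaf.germ U x hxU m := by
      have hs' : (X.presheaf.germ U x hxU (s : B)) • v = F.presheaf.germ U x hxU m := hs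
      rw [← hs', smul_smul, ht, one_smul]
    rw [hv]
    clear hv hs
    refine Submodule.smul_induction_on hm (fun a ha z _ => ?_) fun z z' hz hz' => ?_
    · have hcomm : t • a • z = a • t • z := by
        show t • (f.stalkMap x a) • z = (f.stalkMap x a) • t • z
        rw [smul_smul, smul_smul, mul_comm]
      rw [hcomm]
      exact Submodule.smul_mem_smul ha trivial
    · rw [smul_add]; exact add_mem hz hz'
  haveI : Nontrivial (K' ⊗[A] Γ(F, U)) := by
    haveI : Nontrivial (K' ⊗[K] (K ⊗[A] Γ(F, U))) := inferInstance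
    exact (TensorProduct.AlgebraTensorModule.cancelBaseChange A K K' K' Γ(F, U)).symm.toEquiv.nontrivial
  -- the fibre over the point of the base change
  let C := B ⊗[A] K'
  let Z : Scheme.{u} := Spec (CommRingCat.of C)
  haveI : IsAffine Z := inferInstance
  let iB : B ⟶ CommRingCat.of C := CommRingCat.ofHom Algebra.TensorProduct.includeLeftRingHom
  let iK : K' ⟶ CommRingCat.of C := CommRingCat.ofHom (Algebra.TensorProduct.includeRight : K' →ₐ[A] C).toRingHom
  let a₁ : Z ⟶ X := Spec.map iB ≫ hU.fromSpec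
  let a₂ : Z ⟶ Y' := Spec.map iK ≫ Y'.fromSpecResidueField y'
  have hcomm : a₁ ≫ f = a₂ ≫ g := by
    have h1 : Y.fromSpecResidueField (g y') = Spec.map ev ≫ hW.fromSpec := by
      rw [Scheme.fromSpecResidueField, ← hW.fromSpecStalk_eq_fromSpecStalk hyW, IsAffineOpen.fromSpecStalk,
        Spec.map_comp, Category.assoc]
    have h2 : φ ≫ iB = (ev ≫ g.residueFieldMap y') ≫ iK := by
      refine CommRingCat.hom_ext (RingHom.ext fun a => ?_)
      show (algebraMap A B a) ⊗ₜ[A] (1 : K') = (1 : B) ⊗ₜ[A] algebraMap A K' a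
      rw [Algebra.algebraMap_eq_smul_one, Algebra.algebraMap_eq_smul_one, smul_tmul]
    show (Spec.map iB ≫ hU.fromSpec) ≫ f = (Spec.map iK ≫ Y'.fromSpecResidueField y') ≫ g
    rw [Category.assoc, ← IsAffineOpen.SpecMap_appLE_fromSpec f hW hU hle, Category.assoc,
      ← Scheme.Hom.SpecMap_residueFieldMap_fromSpecResidueField, h1, ← Category.assoc, ← Spec.map_comp,
      ← Category.assoc, ← Spec.map_comp, ← Category.assoc, ← Spec.map_comp, h2, Category.assoc]
  let h : Z ⟶ pullback f g := pullback.lift a₁ a₂ hcomm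
  let p := pullback.fst f g
  let G := (Scheme.Modules.pullback (h ≫ p)).obj F
  have hle' : (⊤ : Z.Opens) ≤ (h ≫ p) ⁻¹ᵁ U := fun z _ => by
    show (h ≫ p) z ∈ U
    rw [pullback.lift_fst]
    exact hU.range_fromSpec.subset ⟨_, rfl⟩
  obtain ⟨s, hs⟩ : ∃ s : Γ(G, ⊤), s ≠ 0 := by
    let e : B ⟶ Γ(Z, ⊤) := (h ≫ p).appLE U ⊤ hle'
    letI := e.hom.toAlgebra
    letI := Module.compHom Γ(G, ⊤) e.hom
    haveI : IsScalarTower B Γ(Z, ⊤) Γ(G, ⊤) := .of_algebraMap_smul fun _ _ => rfl
    let E := (H8Props.PullSections.isBaseChange_pullLin (h ≫ p) F hle' hF hU (isAffineOpen_top Z)).equiv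
    have he : e = iB ≫ (Scheme.ΓSpecIso (CommRingCat.of C)).inv := by
      have h1 : h ≫ p = Spec.map iB ≫ hU.fromSpec := pullback.lift_fst _ _ _
      show (h ≫ p).appLE U ⊤ hle' = _
      refine Spec.map_injective ?_
      rw [← cancel_mono hU.fromSpec, IsAffineOpen.SpecMap_appLE_fromSpec _ hU (isAffineOpen_top Z), h1,
        Spec.map_comp, Category.assoc, IsAffineOpen.fromSpec_top, ← Category.assoc, Scheme.isoSpec_Spec_inv, Category.assoc]
    let eC : C ≃ₗ[B] Γ(Z, ⊤) :=
      { (Scheme.ΓSpecIso (CommRingCat.of C)).commRingCatIsoToRingEquiv.symm.toAddEquiv with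
        map_smul' := fun b c => by
          show (Scheme.ΓSpecIso (CommRingCat.of C)).inv (b • c) = e b * (Scheme.ΓSpecIso (CommRingCat.of C)).inv c
          rw [he, CommRingCat.comp_apply, ← map_mul]
          refine congrArg _ ?_
          rw [Algebra.smul_def]
          rfl }
    haveI : Nontrivial (C ⊗[B] Γ(F, U)) := by
      let e1 : C ⊗[B] Γ(F, U) ≃ₗ[A] K' ⊗[A] Γ(F, U) :=
        ((TensorProduct.comm B C Γ(F, U)).restrictScalars A).trans
          (((TensorProduct.AlgebraTensorModule.cancelBaseChange A B B Γ(F, U) K').restrictScalars A).trans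
            (TensorProduct.comm A Γ(F, U) K'))
      exact e1.toEquiv.nontrivial
    haveI : Nontrivial Γ(G, ⊤) :=
      (E.toEquiv.symm.trans (TensorProduct.congr eC (LinearEquiv.refl B Γ(F, U))).symm.toEquiv).nontrivial
    exact exists_ne 0
  obtain ⟨z, hz⟩ : ∃ z : Z, G.presheaf.germ ⊤ z trivial s ≠ 0 := by
    by_contra hn
    push Not at hn
    exact hs (TopCat.Presheaf.section_ext ⟨G.presheaf, G.isSheaf⟩ ⊤ s 0 fun z _ => by
      rw [map_zero]; exact hn z)
  have hy' : (pullback.snd f g) (h z) = y' := by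
    rw [← Scheme.Hom.comp_apply, pullback.lift_snd, Scheme.Hom.comp_apply, Scheme.fromSpecResidueField_apply]
  refine ⟨h z, hy', fun htop => hz ?_⟩
  letI := H06Mod.stalkAlgebra h z
  let F' := (Scheme.Modules.pullback p).obj F
  letI := FlatMod.moduleStalkOver (pullback.snd f g) F' (h z)
  have hzero : ∀ a ∈ maximalIdeal (Y'.presheaf.stalk ((pullback.snd f g) (h z))),
      h.stalkMap z ((pullback.snd f g).stalkMap (h z) a) = 0 := by
    intro a ha
    have h0 : ∀ (q : Z ⟶ Y'), q = a₂ → ∀ b : Y'.presheaf.stalk (q z), ¬IsUnit b → q.stalkMap z b = 0 := by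
      rintro q rfl b hb
      show (Spec.map iK ≫ Y'.fromSpecResidueField y').stalkMap z b = 0
      rw [Scheme.Hom.stalkMap_comp, CommRingCat.comp_apply]
      have hnu : ¬ IsUnit ((Y'.fromSpecResidueField y').stalkMap (Spec.map iK z) b) := fun hu =>
        hb (isUnit_of_map_unit _ b hu)
      let P : PrimeSpectrum (Y'.residueField y') := Spec.map iK z
      have hP : P.asIdeal.primeCompl ≤ IsUnit.submonoid (Y'.residueField y') := fun c hc =>
        isUnit_iff_ne_zero.mpr fun h0 => hc (h0 ▸ zero_mem _)
      have hfield : IsField ((Spec (Y'.residueField y')).presheaf.stalk (Spec.map iK z)) :=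
        MulEquiv.isField (Field.toIsField (Y'.residueField y'))
          ((Spec.stalkIso _ (Spec.map iK z)).commRingCatIsoToRingEquiv.trans
            (IsLocalization.atUnits (Y'.residueField y') P.asIdeal.primeCompl (S := Localization.AtPrime P.asIdeal) hP).symm.toRingEquiv).toMulEquiv
      have h00 : (Y'.fromSpecResidueField y').stalkMap (Spec.map iK z) b = 0 := by
        by_contra hne0
        obtain ⟨c, hc⟩ := hfield.mul_inv_cancel hne0
        exact hnu (IsUnit.of_mul_eq_one _ hc)
      exact (congrArg _ h00).trans (map_zero _)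
    have h1 := h0 (h ≫ pullback.snd f g) (pullback.lift_snd _ _ _) a ha
    rw [Scheme.Hom.stalkMap_comp] at h1
    exact h1
  have hsub : ∀ t : F'.presheaf.stalk (h z),
      (1 : Z.presheaf.stalk z) ⊗ₜ[(pullback f g).presheaf.stalk (h z)] t = 0 := by
    intro t
    have ht : t ∈ maximalIdeal (Y'.presheaf.stalk ((pullback.snd f g) (h z))) •
        (⊤ : Submodule (Y'.presheaf.stalk ((pullback.snd f g) (h z))) (F'.presheaf.stalk (h z))) :=
      htop.ge Submodule.mem_top
    refine Submodule.smul_induction_on ht (fun a ha u _ => ?_) fun u v hu hv => by rw [tmul_add, hu, hv, add_zero]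
    show (1 : Z.presheaf.stalk z) ⊗ₜ[(pullback f g).presheaf.stalk (h z)] (((pullback.snd f g).stalkMap (h z) a) • u) = 0
    rw [← smul_tmul, Algebra.smul_def, mul_one]
    show h.stalkMap z ((pullback.snd f g).stalkMap (h z) a) ⊗ₜ[_] u = 0
    rw [hzero a ha, zero_tmul]
  have hall : ∀ w : ((Scheme.Modules.pullback h).obj F').presheaf.stalk z, w = 0 := by
    intro w
    obtain ⟨w, rfl⟩ := (H06Mod.pullStalkEquiv h F' z).surjective w
    induction w using TensorProduct.induction_on with
    | zero => exact map_zero _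
    | tmul r t => rw [show r ⊗ₜ[(pullback f g).presheaf.stalk (h z)] t = r • ((1 : Z.presheaf.stalk z) ⊗ₜ t) by
        rw [smul_tmul', smul_eq_mul, mul_one], hsub, smul_zero, map_zero]
    | add u v hu hv => rw [map_add, hu, hv, add_zero]
  let eS := (TopCat.Presheaf.stalkFunctor Ab.{u} z).mapIso
    ((Scheme.Modules.toPresheaf Z).mapIso ((Scheme.Modules.pullbackComp h p).app F))
  have h3 : eS.hom (eS.inv (G.presheaf.germ ⊤ z trivial s)) = G.presheaf.germ ⊤ z trivial s :=
    congr($(eS.inv_hom_id) _)
  rw [← h3, hall (eS.inv _), map_zero]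

end Groth.Agent.H06FDesc
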