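import Groth.Agent.H06FDesc.TensorComp
import Groth.Agent.H06FDesc.FaithfullyFlatBC
import Mathlib

/-! Descent of flatness and of nonvanishing fibres along tensoring with a faithfully flat module. -/

set_option autoImplicit false
set_option linter.style.haveILetI false
set_option backward.isDefEq.respectTransparency false
universe u

open CategoryTheory CategoryTheory.Limits AlgebraicGeometry IsLocalRing
open scoped TensorProduct

namespace Groth.Agent.H06FDesc

section Algebra

variable {R S M N : Type u} [CommRing R] [CommRing S] [Algebra R S]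
  [AddCommGroup M] [Module S M] [Module R M] [IsScalarTower R S M]
  [AddCommGroup N] [Module R N] [Module S N] [IsScalarTower R S N]

theorem flat_of_flat_tensor_module [Module.FaithfullyFlat S M] [Module.Flat R (M ⊗[S] N)] :
    Module.Flat R N := by
  let e (P : Type u) [AddCommGroup P] [Module R P] := TensorProduct.AlgebraTensorModule.assoc R S S M N P
  rw [Module.Flat.iff_lTensor_injective']
  intro I
  let φ : N ⊗[R] I →ₗ[S] N ⊗[R] R := TensorProduct.AlgebraTensorModule.lTensor S N I.subtype
  have key : ∀ z, e R (LinearMap.lTensor (M ⊗[S] N) I.subtype z) = φ.lTensor M (e I z) := by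
    intro z
    induction z using TensorProduct.induction_on with
    | zero => simp
    | add a b ha hb => simp only [map_add, ha, hb]
    | tmul tn i =>
      induction tn using TensorProduct.induction_on with
      | zero => simp
      | tmul t n => simp [e, φ]
      | add a b ha hb => simp only [TensorProduct.add_tmul, map_add, ha, hb]
  have hinj : Function.Injective (φ.lTensor M) := fun a b hab => by
    obtain ⟨a, rfl⟩ := (e I).surjective a
    obtain ⟨b, rfl⟩ := (e I).surjective b
    rw [← key, ← key] at hab
    exact congrArg _ (Module.Flat.lTensor_preserves_injective_linearMap (M := M ⊗[S] N) I.subtype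
      Subtype.val_injective ((e R).injective hab))
  exact (Module.FaithfullyFlat.lTensor_injective_iff_injective S M φ).1 hinj

theorem tensor_smul_top_eq_top (I : Ideal R) (h : I • (⊤ : Submodule R N) = ⊤) :
    I • (⊤ : Submodule R (M ⊗[S] N)) = ⊤ := by
  refine eq_top_iff.2 fun z _ => ?_
  induction z using TensorProduct.induction_on with
  | zero => exact zero_mem _
  | add a b ha hb => exact add_mem (ha trivial) (hb trivial)
  | tmul m n =>
    refine Submodule.smul_induction_on (h.ge (show n ∈ ⊤ from trivial)) (fun r hr b _ => ?_)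
      fun a b ha hb => by rw [TensorProduct.tmul_add]; exact add_mem ha hb
    rw [← algebraMap_smul S r b, ← TensorProduct.smul_tmul, algebraMap_smul, ← TensorProduct.smul_tmul']
    exact Submodule.smul_mem_smul hr trivial

theorem smul_top_eq_top_of_tensor [Module.FaithfullyFlat S M] (I : Ideal R)
    (h : I • (⊤ : Submodule R (M ⊗[S] N)) = ⊤) : I • (⊤ : Submodule R N) = ⊤ := by
  let N₀ : Submodule S N := I.map (algebraMap R S) • ⊤
  have hN : N₀.restrictScalars R = I • (⊤ : Submodule R N) :=
    (Ideal.smul_restrictScalars I (⊤ : Submodule S N)).trans (by rw [Submodule.restrictScalars_top])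
  let f := N₀.mkQ.lTensor M
  have hf : ∀ z, f z = 0 := fun z => by
    refine Submodule.smul_induction_on (h.ge (show z ∈ ⊤ from trivial)) (fun r hr b _ => ?_)
      fun a b ha hb => by rw [map_add, ha, hb, add_zero]
    induction b using TensorProduct.induction_on with
    | zero => rw [smul_zero, map_zero]
    | add a b ha hb => rw [smul_add, map_add, ha trivial, hb trivial, add_zero]
    | tmul m n =>
      rw [TensorProduct.smul_tmul', ← algebraMap_smul S r m, TensorProduct.smul_tmul]
      show m ⊗ₜ[S] N₀.mkQ (algebraMap R S r • n) = 0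
      rw [show N₀.mkQ (algebraMap R S r • n) = 0 from (Submodule.Quotient.mk_eq_zero _).2
        (Submodule.smul_mem_smul (Ideal.mem_map_of_mem _ hr) trivial), TensorProduct.tmul_zero]
  haveI : Subsingleton (M ⊗[S] (N ⧸ N₀)) := subsingleton_of_forall_eq 0 fun z => by
    obtain ⟨z, rfl⟩ := LinearMap.lTensor_surjective M N₀.mkQ_surjective z
    exact hf z
  haveI : Subsingleton (N ⧸ N₀) := Module.FaithfullyFlat.subsingleton_tensorProduct_iff_right S M |>.1 inferInstance
  rw [← hN, Submodule.Quotient.subsingleton_iff.1 this, Submodule.restrictScalars_top]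

theorem smul_top_eq_top_equiv {T : Type u} [AddCommGroup T] [Module R T] (e : N ≃ₗ[R] T) (I : Ideal R) :
    I • (⊤ : Submodule R N) = ⊤ ↔ I • (⊤ : Submodule R T) = ⊤ := by
  constructor
  · intro h
    have := congrArg (Submodule.map e.toLinearMap) h
    rwa [Submodule.map_smul'', Submodule.map_top, LinearMap.range_eq_top.2 e.surjective] at this
  · intro h
    have := congrArg (Submodule.map e.symm.toLinearMap) h
    rwa [Submodule.map_smul'', Submodule.map_top, LinearMap.range_eq_top.2 e.symm.surjective] at this

end Algebra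

attribute [local instance] H06Mod.stalkAlgebra

variable {P Y' Z : Scheme.{u}} (q : P ⟶ Y') (h : Y' ⟶ Z) (F' : P.Modules) (G : Y'.Modules) (x' : P)

/-- The fibre at a point is nonzero. -/
def FibNe {A B : Scheme.{u}} (f : A ⟶ B) (M : A.Modules) (a : A) : Prop :=
  letI := FlatMod.moduleStalkOver f M a
  maximalIdeal (B.presheaf.stalk (f a)) • (⊤ : Submodule (B.presheaf.stalk (f a)) (M.presheaf.stalk a)) ≠ ⊤

theorem tensor_props :
    (FlatMod.IsFlatOverAt q F' x' → FibNe q F' x' →
      FlatMod.IsFlatOverAt (q ≫ h) (CohB1.tensorMod F' ((Scheme.Modules.pullback q).obj G)) x' →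
        FlatMod.IsFlatOverAt h G (q.base x')) ∧
    (FlatMod.IsFlatOverAt q F' x' → FibNe q F' x' → FibNe h G (q.base x') →
      FibNe (q ≫ h) (CohB1.tensorMod F' ((Scheme.Modules.pullback q).obj G)) x') ∧
    (FibNe (q ≫ h) (CohB1.tensorMod F' ((Scheme.Modules.pullback q).obj G)) x' → FibNe h G (q.base x')) := by
  let S := Z.presheaf.stalk ((q ≫ h).base x')
  let R' := Y'.presheaf.stalk (q.base x')
  let C := P.presheaf.stalk x'
  letI : Algebra S R' := (h.stalkMap (q.base x')).hom.toAlgebra
  letI mF : Module R' (F'.presheaf.stalk x') := FlatMod.moduleStalkOver q F' x'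
  haveI : IsScalarTower R' C (F'.presheaf.stalk x') := H17.AssFlat.isScalarTower_over q F' x'
  letI mG : Module S (G.presheaf.stalk (q.base x')) := FlatMod.moduleStalkOver h G (q.base x')
  haveI : IsScalarTower S R' (G.presheaf.stalk (q.base x')) := .of_algebraMap_smul fun _ _ => rfl
  letI mF' : Module S (F'.presheaf.stalk x') := Module.compHom _ (algebraMap S R')
  haveI : IsScalarTower S R' (F'.presheaf.stalk x') := .of_algebraMap_smul fun _ _ => rfl
  let e : (CohB1.tensorMod F' ((Scheme.Modules.pullback q).obj G)).presheaf.stalk x' ≃ₗ[C]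
      F'.presheaf.stalk x' ⊗[R'] G.presheaf.stalk (q.base x') :=
    (H16Derived.KFlat.Stalk.stalkEquiv F' ((Scheme.Modules.pullback q).obj G) x').symm ≪≫ₗ
    TensorProduct.congr (LinearEquiv.refl _ _)
      (LinearEquiv.ofBijective _ (H06Mod.pullStalkLin_bijective q G x')).symm ≪≫ₗ
    TensorProduct.AlgebraTensorModule.cancelBaseChange _ _ _ _ _
  letI mT : Module S ((CohB1.tensorMod F' ((Scheme.Modules.pullback q).obj G)).presheaf.stalk x') :=
    FlatMod.moduleStalkOver (q ≫ h) _ x'
  have hs : ∀ (s : S) m, e (s • m) = s • e m := by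
    intro s m
    have h1 : s • m = algebraMap R' C (algebraMap S R' s) • m := by
      show ((q ≫ h).stalkMap x').hom s • m = _
      rw [Scheme.Hom.stalkMap_comp]
      rfl
    rw [h1, map_smul, algebraMap_smul, algebraMap_smul]
  let eS : (CohB1.tensorMod F' ((Scheme.Modules.pullback q).obj G)).presheaf.stalk x' ≃ₗ[S]
      F'.presheaf.stalk x' ⊗[R'] G.presheaf.stalk (q.base x') := { e.toAddEquiv with map_smul' := hs }
  have ff : FlatMod.IsFlatOverAt q F' x' → FibNe q F' x' →
      Module.FaithfullyFlat R' (F'.presheaf.stalk x') := fun h1 h2 =>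
    haveI : Module.Flat R' (F'.presheaf.stalk x') := h1
    { submodule_ne_top := fun {m} hm => by rw [IsLocalRing.eq_maximalIdeal hm]; exact h2 }
  refine ⟨fun h1 h2 h3 => ?_, fun h1 h2 h3 h4 => ?_, fun h3 h4 => ?_⟩
  · haveI := ff h1 h2
    haveI : Module.Flat S ((CohB1.tensorMod F' ((Scheme.Modules.pullback q).obj G)).presheaf.stalk x') := h3
    haveI : Module.Flat S (F'.presheaf.stalk x' ⊗[R'] G.presheaf.stalk (q.base x')) :=
      Module.Flat.of_linearEquiv eS.symm
    have hfin : Module.Flat S (G.presheaf.stalk (q.base x')) :=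
      flat_of_flat_tensor_module (R := S) (S := R') (M := F'.presheaf.stalk x')
        (N := G.presheaf.stalk (q.base x'))
    exact hfin
  · haveI := ff h1 h2
    exact h3 (smul_top_eq_top_of_tensor (R := S) (S := R') (M := F'.presheaf.stalk x') _
      ((smul_top_eq_top_equiv eS _).1 h4))
  · exact h3 ((smul_top_eq_top_equiv eS _).2
      (tensor_smul_top_eq_top (R := S) (S := R') (M := F'.presheaf.stalk x') _ h4))

end Groth.Agent.H06FDesc
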