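import Groth.Agent.H06Mod.StalkBaseChange
import Groth.Agent.H17.AssFlatSch
import Mathlib

/-! Flatness of external tensor products over a composite. -/

set_option autoImplicit false
set_option linter.style.haveILetI false
set_option backward.isDefEq.respectTransparency false
universe u

open CategoryTheory CategoryTheory.Limits AlgebraicGeometry
open scoped TensorProduct

namespace Groth.Agent.H06FDesc

theorem flat_tensor_module_of_flat {R S M N : Type u} [CommRing R] [CommRing S] [Algebra R S]
    [AddCommGroup M] [Module S M] [Module R M] [IsScalarTower R S M] [Module.Flat S M]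
    [AddCommGroup N] [Module R N] [Module S N] [IsScalarTower R S N] [Module.Flat R N] :
    Module.Flat R (M ⊗[S] N) := by
  let e (P : Type u) [AddCommGroup P] [Module R P] := TensorProduct.AlgebraTensorModule.assoc R S S M N P
  rw [Module.Flat.iff_lTensor_injective']
  intro I
  let φ : N ⊗[R] I →ₗ[S] N ⊗[R] R := TensorProduct.AlgebraTensorModule.lTensor S N I.subtype
  have key : ∀ z, e R (LinearMap.lTensor (M ⊗[S] N) I.subtype z) = φ.lTensor M (e I z) := by
    intro z
    induction z using TensorProduct.induction_on with
    | zero => simp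
    | add a b ha hb => simp only [map_add, ha, hb]
    | tmul tn i =>
      induction tn using TensorProduct.induction_on with
      | zero => simp
      | tmul t n => simp [e, φ]
      | add a b ha hb => simp only [TensorProduct.add_tmul, map_add, ha, hb]
  have hinj : Function.Injective (φ.lTensor M) :=
    Module.Flat.lTensor_preserves_injective_linearMap φ
      (Module.Flat.lTensor_preserves_injective_linearMap I.subtype Subtype.val_injective)
  intro a b hab
  exact (e I).injective (hinj (by rw [← key, ← key, hab]))

attribute [local instance] H06Mod.stalkAlgebra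

theorem isFlatOverAt_tensorMod_pullback {P Y' Z : Scheme.{u}} (q : P ⟶ Y') (h : Y' ⟶ Z)
    (F' : P.Modules) (G : Y'.Modules) (x' : P)
    (hF : FlatMod.IsFlatOverAt q F' x') (hG : FlatMod.IsFlatOverAt h G (q.base x')) :
    FlatMod.IsFlatOverAt (q ≫ h) (CohB1.tensorMod F' ((Scheme.Modules.pullback q).obj G)) x' := by
  let S := Z.presheaf.stalk ((q ≫ h).base x')
  let R' := Y'.presheaf.stalk (q.base x')
  let C := P.presheaf.stalk x'
  letI : Algebra S R' := (h.stalkMap (q.base x')).hom.toAlgebra
  letI mF : Module R' (F'.presheaf.stalk x') := FlatMod.moduleStalkOver q F' x'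
  haveI : IsScalarTower R' C (F'.presheaf.stalk x') := H17.AssFlat.isScalarTower_over q F' x'
  haveI : Module.Flat R' (F'.presheaf.stalk x') := hF
  letI mG : Module S (G.presheaf.stalk (q.base x')) := FlatMod.moduleStalkOver h G (q.base x')
  haveI : IsScalarTower S R' (G.presheaf.stalk (q.base x')) := .of_algebraMap_smul fun _ _ => rfl
  haveI : Module.Flat S (G.presheaf.stalk (q.base x')) := hG
  letI mF' : Module S (F'.presheaf.stalk x') := Module.compHom _ (algebraMap S R')
  haveI : IsScalarTower S R' (F'.presheaf.stalk x') := .of_algebraMap_smul fun _ _ => rfl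
  haveI hflat : Module.Flat S (F'.presheaf.stalk x' ⊗[R'] G.presheaf.stalk (q.base x')) :=
    flat_tensor_module_of_flat
  let e : (CohB1.tensorMod F' ((Scheme.Modules.pullback q).obj G)).presheaf.stalk x' ≃ₗ[C]
      F'.presheaf.stalk x' ⊗[R'] G.presheaf.stalk (q.base x') :=
    (H16Derived.KFlat.Stalk.stalkEquiv F' ((Scheme.Modules.pullback q).obj G) x').symm ≪≫ₗ
    TensorProduct.congr (LinearEquiv.refl _ _)
      (LinearEquiv.ofBijective _ (H06Mod.pullStalkLin_bijective q G x')).symm ≪≫ₗ
    TensorProduct.AlgebraTensorModule.cancelBaseChange _ _ _ _ _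
  letI mT : Module S ((CohB1.tensorMod F' ((Scheme.Modules.pullback q).obj G)).presheaf.stalk x') :=
    FlatMod.moduleStalkOver (q ≫ h) _ x'
  have hs : ∀ (s : S) m, e (s • m) = s • e m := by
    intro s m
    have h1 : s • m = algebraMap R' C (algebraMap S R' s) • m := by
      show ((q ≫ h).stalkMap x').hom s • m = _
      rw [Scheme.Hom.stalkMap_comp]
      rfl
    rw [h1, map_smul, algebraMap_smul, algebraMap_smul]
  show Module.Flat S _
  exact Module.Flat.of_linearEquiv ({ e.toAddEquiv with map_smul' := hs } :
    (CohB1.tensorMod F' ((Scheme.Modules.pullback q).obj G)).presheaf.stalk x' ≃ₗ[S]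
      F'.presheaf.stalk x' ⊗[R'] G.presheaf.stalk (q.base x'))

end Groth.Agent.H06FDesc
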